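import Groth.Agent.Lib.BertiniJets13.Core
import Groth.Agent.Lib.BertiniAff5.Basic
import Groth.Agent.Lib.RegLoc.Basic
import Groth.Agent.Lib.SmoothFppf.Ring

/-! # Bertini by jets on a smooth affine -/

set_option autoImplicit false
set_option linter.style.haveILetI false
universe u

open KaehlerDifferential

namespace Groth.Agent.BertiniJets13

variable {k : Type u} [Field k] [IsAlgClosed k] {A : Type u} [CommRing A] [Algebra k A] [Algebra.Smooth k A]

/-- A localisation with a basis of differentials has dimension at most the size of the basis. -/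
theorem ringKrullDim_le_card {B : Type u} [CommRing B] [Algebra k B] [Algebra.Smooth k B] {κ : Type} [Fintype κ]
    (b : Module.Basis κ B Ω[B⁄k]) (y : κ → B) (hb : ∀ l, b l = D k B (y l)) :
    ringKrullDim B ≤ Fintype.card κ := by
  rcases subsingleton_or_nontrivial B with h | h
  · rw [ringKrullDim_eq_bot_of_subsingleton]; exact bot_le
  haveI : Subsingleton (Algebra.H1Cotangent k B) := inferInstance
  haveI : Algebra.IsStandardSmooth k B :=
    Algebra.IsStandardSmooth.of_basis_kaehlerDifferential b (by rintro _ ⟨l, rfl⟩; exact ⟨y l, (hb l).symm⟩)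
  haveI : Algebra.IsStandardSmoothOfRelativeDimension (Fintype.card κ) k B := by
    rw [Algebra.IsStandardSmoothOfRelativeDimension.iff_of_isStandardSmooth, rank_eq_card_basis b]
  rw [ringKrullDim, Order.krullDim_eq_iSup_height]
  refine iSup_le fun p => ?_
  obtain ⟨M, hM, hle⟩ := Ideal.exists_le_maximal p.asIdeal p.2.ne_top
  have h1 := CurveCartier25.ringKrullDim_atPrime_of_standardSmooth k B (Fintype.card κ) M
  rw [IsLocalization.AtPrime.ringKrullDim_eq_height M] at h1
  have h2 : Order.height p ≤ Order.height (⟨M, hM.isPrime⟩ : PrimeSpectrum B) := Order.height_mono hle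
  rw [← PrimeSpectrum.height_eq_orderHeight ⟨M, hM.isPrime⟩] at h2
  calc ((Order.height p : ℕ∞) : WithBot ℕ∞) ≤ ((M.height : ℕ∞) : WithBot ℕ∞) := by exact_mod_cast h2
    _ = _ := h1

/-- Near a prime of a smooth algebra, almost no member of the family lies in the square of a maximal ideal. -/
theorem exists_nhd (p : Ideal A) [p.IsPrime] {m : ℕ} (g₀ : A) (g : Fin m → A)
    (hjet : ∀ (M : Ideal A), M.IsMaximal → ∀ z : A, ∃ c : Fin m → k, (∑ i, c i • g i) - z ∈ M ^ 2) :
    ∃ f : A, f ∉ p ∧ ∃ G : MvPolynomial (Fin m) k, G ≠ 0 ∧ ∀ c : Fin m → k, MvPolynomial.eval c G ≠ 0 →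
      ∀ M : Ideal A, M.IsMaximal → f ∉ M → g₀ + ∑ i, c i • g i ∉ M ^ 2 := by
  classical
  obtain ⟨n, φ, hφ⟩ := Algebra.FiniteType.iff_quotient_mvPolynomial''.1 (inferInstance : Algebra.FiniteType k A)
  let x : Fin n → A := fun i => φ (MvPolynomial.X i)
  have hx : Function.Surjective (MvPolynomial.aeval x : MvPolynomial (Fin n) k →ₐ[k] A) := by
    rwa [show (MvPolynomial.aeval x : MvPolynomial (Fin n) k →ₐ[k] A) = φ from MvPolynomial.algHom_ext (by simp [x])]
  haveI : Algebra.IsSmoothAt k p := Algebra.smoothLocus_eq_univ.symm.subset (Set.mem_univ (⟨p, inferInstance⟩ : PrimeSpectrum A))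
  obtain ⟨f, hf, κ, _, a, b, hb⟩ := BertiniAff5.exists_chart x hx p
  refine ⟨f, hf, ?_⟩
  let B := Localization.Away f
  let j := algebraMap A B
  haveI : Algebra.Smooth A B := inferInstance
  haveI : Algebra.Smooth k B := Algebra.Smooth.comp k A B
  haveI : Algebra.FiniteType k B := inferInstance
  have hjB : ∀ (c : Fin m → k), j (g₀ + ∑ i, c i • g i) = j g₀ + ∑ i, c i • j (g i) := fun c => by
    rw [map_add, map_sum]
    congr 1
    exact Finset.sum_congr rfl fun i _ => by
      rw [← IsScalarTower.coe_toAlgHom' k A B, map_smul]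
  obtain ⟨G, hG, hgood⟩ := exists_good_poly b (fun l => j (x (a l))) hb
    (ringKrullDim_le_card b _ hb) (j g₀) (fun i => j (g i)) (fun N hN z => by
      haveI := hN
      obtain ⟨⟨w, ⟨_, e, rfl⟩⟩, hw⟩ := IsLocalization.surj (Submonoid.powers f) z
      let M := N.comap j
      haveI : M.IsMaximal := by
        letI : Field (B ⧸ N) := Ideal.Quotient.field N
        haveI : Module.Finite k (B ⧸ N) := finite_of_finite_type_of_isJacobsonRing k (B ⧸ N)
        haveI : Module.Finite A (B ⧸ N) := Module.Finite.of_restrictScalars_finite k A (B ⧸ N)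
        have := Ideal.isMaximal_comap_of_isIntegral_of_isMaximal (R := A) (⊥ : Ideal (B ⧸ N))
        rwa [← RingHom.ker_eq_comap_bot, IsScalarTower.algebraMap_eq A B (B ⧸ N),
          ← RingHom.comap_ker, Ideal.Quotient.algebraMap_eq, Ideal.mk_ker] at this
      have hfM : f ^ e ∉ M := fun hm => hN.isPrime.ne_top (Ideal.eq_top_of_isUnit_mem _ hm
        ((IsLocalization.Away.algebraMap_isUnit f).pow e |> fun h => by rwa [map_pow]))
      have htop : Ideal.span {f ^ e} ⊔ M ^ 2 = ⊤ := Ideal.sup_pow_eq_top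
        ((‹M.IsMaximal›).1.2 _ (by rw [right_lt_sup, Ideal.span_singleton_le_iff_mem]; exact hfM))
      obtain ⟨s, hs, t, ht, hst⟩ := Submodule.mem_sup.1 ((Ideal.eq_top_iff_one _).1 htop)
      obtain ⟨r, rfl⟩ := Ideal.mem_span_singleton'.1 hs
      obtain ⟨c, hc⟩ := hjet M ‹_› (w * r)
      refine ⟨c, ?_⟩
      have h1 : j ((∑ i, c i • g i) - w * r) ∈ N ^ 2 := by
        have := Ideal.mem_map_of_mem j hc
        rw [Ideal.map_pow] at this
        exact Ideal.pow_right_mono Ideal.map_comap_le 2 this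
      have h2 : j t ∈ N ^ 2 := by
        have := Ideal.mem_map_of_mem j ht
        rw [Ideal.map_pow] at this
        exact Ideal.pow_right_mono Ideal.map_comap_le 2 this
      have h3 := congrArg j hst
      rw [map_add, map_mul, map_one] at h3
      have e1 : (∑ i, c i • j (g i)) - z = j ((∑ i, c i • g i) - w * r) - z * j t := by
        have h0 := hjB c
        rw [map_add, add_right_inj] at h0
        have e2 : j (w * r) = z * (1 - j t) := by
          rw [map_mul, ← h3, ← hw]
          ring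
        rw [map_sub, h0, e2]
        ring
      rw [e1]
      exact sub_mem h1 ((N ^ 2).mul_mem_left _ h2))
  refine ⟨G, hG, fun c hc M hM hfM hsq => ?_⟩
  haveI := hM
  have hdisj : Disjoint ((Submonoid.powers f : Submonoid A) : Set A) (M : Set A) :=
    (Ideal.disjoint_powers_iff_notMem_of_isPrime _).2 hfM
  have hN : (M.map j).IsPrime := IsLocalization.isPrime_of_isPrime_disjoint (Submonoid.powers f) B M inferInstance hdisj
  have hmem : j (g₀ + ∑ i, c i • g i) ∈ (M.map j) ^ 2 := by
    have := Ideal.mem_map_of_mem j hsq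
    rwa [Ideal.map_pow] at this
  rw [hjB] at hmem
  refine hN.ne_top (top_le_iff.1 ((hgood c hc).ge.trans (Ideal.span_le.2 ?_)))
  rintro _ ⟨o, rfl⟩
  exact row_mem_of_mem_sq b _ hmem o

omit [IsAlgClosed k] in
/-- A finite type algebra over a field whose elements avoid squares of maximal ideals has smooth quotients. -/
theorem smooth_quotient [IsAlgClosed k] (h : A) (hh : ∀ M : Ideal A, M.IsMaximal → h ∉ M ^ 2) :
    Algebra.Smooth k (A ⧸ Ideal.span {h}) := by
  let Q := A ⧸ Ideal.span {h}
  haveI : IsNoetherianRing A := Algebra.FiniteType.isNoetherianRing k A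
  haveI hfp : Algebra.FinitePresentation k Q :=
    Algebra.FinitePresentation.quotient (R := k) (Submodule.fg_span (Set.finite_singleton h))
  refine ⟨Algebra.smoothLocus_eq_univ_iff.mp (Set.eq_univ_iff_forall.mpr fun q => ?_), hfp⟩
  obtain ⟨m, hm, hqm⟩ := Ideal.exists_le_maximal q.asIdeal q.2.ne_top
  let qm : PrimeSpectrum Q := ⟨m, hm.isPrime⟩
  suffices hsm : qm ∈ Algebra.smoothLocus k Q from
    ((PrimeSpectrum.le_iff_specializes q qm).1 hqm).mem_open Algebra.isOpen_smoothLocus hsm
  haveI := hm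
  let M := m.comap (Ideal.Quotient.mk (Ideal.span {h}))
  haveI : M.IsMaximal := Ideal.comap_isMaximal_of_surjective _ Ideal.Quotient.mk_surjective
  have hhM : h ∈ M := by
    show Ideal.Quotient.mk _ h ∈ m
    rw [Ideal.Quotient.eq_zero_iff_mem.2 (Ideal.mem_span_singleton_self h)]
    exact m.zero_mem
  let Ap := Localization.AtPrime M
  haveI : IsRegularLocalRing Ap :=
    SmoothReg17.isRegularLocalRing_of_smooth (algebraMap k A) (RingHom.smooth_algebraMap.2 inferInstance) M
  have hx : algebraMap A Ap h ∈ IsLocalRing.maximalIdeal Ap :=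
    (IsLocalization.AtPrime.to_map_mem_maximal_iff Ap M h).2 hhM
  have hx2 : algebraMap A Ap h ∉ IsLocalRing.maximalIdeal Ap ^ 2 := by
    intro h2
    rw [← Localization.AtPrime.map_eq_maximalIdeal, ← Ideal.map_pow,
      IsLocalization.algebraMap_mem_map_algebraMap_iff M.primeCompl] at h2
    obtain ⟨s, hs, hsh⟩ := h2
    have htop : Ideal.span {s} ⊔ M ^ 2 = ⊤ := Ideal.sup_pow_eq_top
      ((‹M.IsMaximal›).1.2 _ (by rw [right_lt_sup, Ideal.span_singleton_le_iff_mem]; exact hs))
    obtain ⟨r', hr', t, ht, hrt⟩ := Submodule.mem_sup.1 ((Ideal.eq_top_iff_one _).1 htop)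
    obtain ⟨r, rfl⟩ := Ideal.mem_span_singleton'.1 hr'
    refine hh M ‹_› ?_
    rw [← one_mul h, ← hrt, add_mul, mul_assoc]
    exact add_mem ((M ^ 2).mul_mem_left _ hsh) ((M ^ 2).mul_mem_right _ ht)
  obtain ⟨hR, -⟩ := RegLoc.quotient_span_singleton hx hx2
  let Qp := Ap ⧸ (Ideal.span {h}).map (algebraMap A Ap)
  haveI : IsLocalization (Algebra.algebraMapSubmonoid Q M.primeCompl) Qp := inferInstance
  have hsub : Algebra.algebraMapSubmonoid Q M.primeCompl = m.primeCompl := by
    ext z
    constructor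
    · rintro ⟨a, ha, rfl⟩ hz
      exact ha hz
    · intro hz
      obtain ⟨a, rfl⟩ := Ideal.Quotient.mk_surjective z
      exact ⟨a, hz, rfl⟩
  haveI : IsLocalization.AtPrime Qp m := by
    unfold IsLocalization.AtPrime
    rw [← hsub]
    assumption
  haveI : IsRegularLocalRing Qp := IsRegularLocalRing.of_ringEquiv (R := Ap ⧸ Ideal.span {algebraMap A Ap h})
    (Ideal.quotEquivOfEq (by rw [Ideal.map_span, Set.image_singleton]))
  haveI : IsRegularLocalRing (Localization.AtPrime m) :=
    IsRegularLocalRing.of_ringEquiv (IsLocalization.algEquiv m.primeCompl Qp (Localization.AtPrime m)).toRingEquiv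
  haveI : Algebra.EssFiniteType Q m.ResidueField := inferInstance
  haveI : Algebra.EssFiniteType k m.ResidueField := Algebra.EssFiniteType.comp k Q _
  exact RegSmooth17.isSmoothAt_of_isRegularLocalRing k Q m

/-- Bertini by jets on a smooth affine scheme. -/
theorem exists_good_poly_affine {m : ℕ} (g₀ : A) (g : Fin m → A)
    (hjet : ∀ (M : Ideal A), M.IsMaximal → ∀ z : A, ∃ c : Fin m → k, (∑ i, c i • g i) - z ∈ M ^ 2) :
    ∃ G : MvPolynomial (Fin m) k, G ≠ 0 ∧ ∀ c : Fin m → k, MvPolynomial.eval c G ≠ 0 →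
      Algebra.Smooth k (A ⧸ Ideal.span {g₀ + ∑ i, c i • g i}) := by
  classical
  choose f hf G hG hgood using fun p : PrimeSpectrum A => exists_nhd p.asIdeal g₀ g hjet
  obtain ⟨t, ht⟩ := CompactSpace.isCompact_univ.elim_finite_subcover
    (fun p : PrimeSpectrum A => (PrimeSpectrum.basicOpen (f p) : Set (PrimeSpectrum A)))
    (fun p => (PrimeSpectrum.basicOpen (f p)).2) (fun p _ => Set.mem_iUnion.2 ⟨p, hf p⟩)
  refine ⟨∏ p ∈ t, G p, Finset.prod_ne_zero_iff.2 fun p _ => hG p, fun c hc => smooth_quotient _ fun M hM => ?_⟩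
  rw [map_prod, Finset.prod_ne_zero_iff] at hc
  obtain ⟨p, hp, hpM⟩ := Set.mem_iUnion₂.1 (ht (Set.mem_univ (⟨M, hM.isPrime⟩ : PrimeSpectrum A)))
  exact hgood p c (hc p hp) M hM hpM

end Groth.Agent.BertiniJets13
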