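import Groth.Agent.Lib.VarDim.Alg
import Mathlib

/-! # Bertini by jets: the algebraic count -/

set_option autoImplicit false
set_option linter.style.haveILetI false
universe u

open KaehlerDifferential

namespace Groth.Agent.BertiniJets13

variable {k : Type u} [Field k] {B : Type u} [CommRing B] [Algebra k B]

/-- Value and partial derivatives. -/
noncomputable def row {κ : Type} (b : Module.Basis κ B Ω[B⁄k]) : B →ₗ[k] (Option κ → B) where
  toFun z o := o.elim z fun l => b.repr (D k B z) l
  map_add' z w := funext fun o => by cases o <;> simp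
  map_smul' a z := funext fun o => by
    cases o
    · rfl
    · show b.repr (D k B (a • z)) _ = a • b.repr (D k B z) _
      rw [Derivation.map_smul, ← algebraMap_smul B a, map_smul, Finsupp.smul_apply, algebraMap_smul]

variable {κ : Type} [Fintype κ] (b : Module.Basis κ B Ω[B⁄k])

theorem row_none (z : B) : row b z none = z := rfl

theorem row_some (z : B) (l : κ) : row b z (some l) = b.repr (D k B z) l := rfl

/-- `row` sends the square of an ideal into the ideal. -/
theorem row_mem_of_mem_sq (M : Ideal B) {z : B} (hz : z ∈ M ^ 2) (o : Option κ) : row b z o ∈ M := by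
  rw [pow_two] at hz
  induction hz using Submodule.mul_induction_on' with
  | mem_mul_mem x hx y hy =>
    cases o with
    | none => exact M.mul_mem_right _ hx
    | some l =>
      rw [row_some, Derivation.leibniz, map_add, map_smul, map_smul, Finsupp.add_apply, Finsupp.smul_apply,
        Finsupp.smul_apply, smul_eq_mul, smul_eq_mul]
      exact add_mem (M.mul_mem_right _ hx) (M.mul_mem_right _ hy)
  | add x _ y _ hx hy => rw [map_add]; exact add_mem hx hy

/-- The Jacobian map of a family. -/
noncomputable def jac {m : ℕ} (g : Fin m → B) : (Fin m → B) →ₗ[B] (Option κ → B) :=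
  Fintype.linearCombination B fun i => row b (g i)

theorem mem_smul_top_of_forall {ι : Type} [Fintype ι] [DecidableEq ι] (M : Ideal B) {v : ι → B}
    (hv : ∀ o, v o ∈ M) : v ∈ M • (⊤ : Submodule B (ι → B)) := by
  rw [pi_eq_sum_univ v]
  exact Submodule.sum_mem _ fun o _ => Submodule.smul_mem_smul (hv o) Submodule.mem_top

/-- Scalars of a finitely generated algebra over an algebraically closed field, modulo a maximal ideal. -/
theorem exists_const [IsAlgClosed k] [Algebra.FiniteType k B] (M : Ideal B) [M.IsMaximal] (z : B) :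
    ∃ a : k, z - algebraMap k B a ∈ M := by
  letI : Field (B ⧸ M) := Ideal.Quotient.field M
  haveI : Module.Finite k (B ⧸ M) := finite_of_finite_type_of_isJacobsonRing k (B ⧸ M)
  haveI : Algebra.IsIntegral k (B ⧸ M) := Algebra.IsIntegral.of_finite k _
  obtain ⟨a, ha⟩ := (IsAlgClosed.algebraMap_bijective_of_isIntegral (k := k) (K := B ⧸ M)).2 (Ideal.Quotient.mk M z)
  exact ⟨a, Ideal.Quotient.eq.1 (ha.symm.trans rfl)⟩

/-- Jets surjective at all maximal ideals: the Jacobian map is surjective. -/
theorem jac_surjective [IsAlgClosed k] [Algebra.FiniteType k B] (y : κ → B) (hb : ∀ l, b l = D k B (y l))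
    {m : ℕ} (g : Fin m → B)
    (hjet : ∀ (M : Ideal B), M.IsMaximal → ∀ z : B, ∃ c : Fin m → k, (∑ i, c i • g i) - z ∈ M ^ 2) :
    Function.Surjective (jac b g) := by
  classical
  rw [← LinearMap.range_eq_top]
  set N := LinearMap.range (jac b g)
  suffices h : ∀ (M : Ideal B), M.IsMaximal → ∀ w, w ∈ N ⊔ M • (⊤ : Submodule B (Option κ → B)) by
    by_contra hN
    let Q := (Option κ → B) ⧸ N
    haveI : Nontrivial Q := Submodule.Quotient.nontrivial_iff.2 hN
    obtain ⟨M, hM, hle⟩ := Ideal.exists_le_maximal (Module.annihilator B Q) (by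
      intro h1
      have h2 : ∀ x : Q, x = 0 := fun x => by
        have := Module.mem_annihilator.1 (h1 ▸ Submodule.mem_top (x := (1 : B)) : (1 : B) ∈ Module.annihilator B Q) x
        rwa [one_smul] at this
      obtain ⟨x, hx⟩ := exists_ne (0 : Q)
      exact hx (h2 x))
    obtain ⟨r, hr1, hr0⟩ := Submodule.exists_sub_one_mem_and_smul_eq_zero_of_fg_of_le_smul M (⊤ : Submodule B Q)
      Module.Finite.fg_top (fun q _ => by
        obtain ⟨w, rfl⟩ := Submodule.mkQ_surjective N q
        have h3 := Submodule.mem_map_of_mem (f := N.mkQ) (h M hM w)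
        rw [Submodule.map_sup, Submodule.map_smul'', Submodule.map_top, Submodule.range_mkQ, Submodule.mkQ_map_self,
          bot_sup_eq] at h3
        exact h3)
    have hr : r ∈ M := hle (Module.mem_annihilator.2 fun x => hr0 x trivial)
    exact hM.ne_top ((Ideal.eq_top_iff_one M).2 (by simpa using M.sub_mem hr hr1))
  intro M hM w
  haveI := hM
  have key : ∀ z, row b z ∈ N ⊔ M • (⊤ : Submodule B (Option κ → B)) := by
    intro z
    obtain ⟨c, hc⟩ := hjet M hM z
    have e : row b z = jac b g (fun i => algebraMap k B (c i)) - row b ((∑ i, c i • g i) - z) := by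
      rw [jac, Fintype.linearCombination_apply, map_sub, map_sum, sub_sub_eq_add_sub, eq_sub_iff_add_eq, add_comm]
      congr 1
      exact Finset.sum_congr rfl fun i _ => by rw [map_smul, algebraMap_smul]
    rw [e]
    exact Submodule.sub_mem _ (Submodule.mem_sup_left ⟨_, rfl⟩)
      (Submodule.mem_sup_right (mem_smul_top_of_forall M (row_mem_of_mem_sq b M hc)))
  rw [pi_eq_sum_univ w]
  refine Submodule.sum_mem _ fun o _ => Submodule.smul_mem _ _ ?_
  cases o with
  | none =>
    convert key 1 using 1
    funext o'
    cases o' <;> simp [row_none, row_some, Derivation.map_one_eq_zero]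
  | some l =>
    obtain ⟨a, ha⟩ := exists_const (k := k) M (y l)
    have : (fun j : Option κ => if some l = j then (1 : B) else 0) =
        row b (y l - algebraMap k B a) - Pi.single (none : Option κ) (y l - algebraMap k B a) := by
      funext o'
      cases o' with
      | none => simp [row_none]
      | some l' =>
        simp only [Pi.sub_apply, row_some, map_sub, Derivation.map_algebraMap, ← hb, Module.Basis.repr_self]
        simp [Finsupp.single_apply]
    rw [this]
    refine Submodule.sub_mem _ (key _) (Submodule.mem_sup_right (mem_smul_top_of_forall M fun o' => ?_))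
    cases o' with
    | none => simpa using ha
    | some l' => simp

/-- The count: almost no member of the family is singular somewhere on the chart. -/
theorem exists_good_poly [IsAlgClosed k] [Algebra.FiniteType k B] (y : κ → B) (hb : ∀ l, b l = D k B (y l))
    (hdim : ringKrullDim B ≤ Fintype.card κ) {m : ℕ} (g₀ : B) (g : Fin m → B)
    (hjet : ∀ (M : Ideal B), M.IsMaximal → ∀ z : B, ∃ c : Fin m → k, (∑ i, c i • g i) - z ∈ M ^ 2) :
    ∃ G : MvPolynomial (Fin m) k, G ≠ 0 ∧ ∀ c : Fin m → k, MvPolynomial.eval c G ≠ 0 →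
      Ideal.span (Set.range (row b (g₀ + ∑ i, c i • g i))) = ⊤ := by
  classical
  haveI : IsNoetherianRing B := Algebra.FiniteType.isNoetherianRing k B
  obtain ⟨σ, hσ⟩ := (jac b g).exists_rightInverse_of_surjective (LinearMap.range_eq_top.2 (jac_surjective b y hb g hjet))
  have hσ' : ∀ v, jac b g (σ v) = v := fun v => LinearMap.congr_fun hσ v
  let w₀ : Fin m → B := -σ (row b g₀)
  let U : Fin m → (Fin m → B) := fun j => Pi.single j 1 - σ (jac b g (Pi.single j 1))
  let ψ : MvPolynomial (Fin m) k →ₐ[k] MvPolynomial (Fin m) B :=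
    MvPolynomial.aeval fun i => MvPolynomial.C (w₀ i) + ∑ j, MvPolynomial.C (U j i) * MvPolynomial.X j
  have hgen : ∀ P : Ideal B, P ∈ minimalPrimes B →
      ∃ G, G ≠ 0 ∧ MvPolynomial.map (Ideal.Quotient.mk P) (ψ G) = 0 := by
    intro P hP
    haveI : P.IsPrime := hP.1.1
    let C := B ⧸ P
    let F := FractionRing C
    let π : B →+* F := (algebraMap C F).comp (Ideal.Quotient.mk P)
    let LF : (Fin m → F) →ₗ[F] (Option κ → F) := Fintype.linearCombination F fun i o => π (row b (g i) o)
    have hLF : ∀ v : Fin m → B, LF (fun i => π (v i)) = fun o => π (jac b g v o) := by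
      intro v
      funext o
      simp [LF, jac, Fintype.linearCombination_apply, Finset.sum_apply]
    have hsurj : Function.Surjective LF := by
      rw [← LinearMap.range_eq_top, eq_top_iff]
      rintro w -
      rw [pi_eq_sum_univ w]
      refine Submodule.sum_mem _ fun o _ => Submodule.smul_mem _ _ ⟨fun i => π (σ (Pi.single o 1) i), ?_⟩
      rw [hLF, hσ']
      funext o'
      simp [Pi.single_apply, apply_ite π, eq_comm]
    let K := LinearMap.ker LF
    let v := Module.finBasis F K
    have hq : Module.finrank F K + (Fintype.card κ + 1) = m := by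
      have h1 := LinearMap.finrank_range_add_finrank_ker LF
      rw [LinearMap.range_eq_top.2 hsurj, finrank_top, Module.finrank_fintype_fun_eq_card,
        Module.finrank_fintype_fun_eq_card, Fintype.card_option, Fintype.card_fin] at h1
      rw [add_comm]
      exact h1
    have hU : ∀ j, (fun i => π (U j i)) ∈ K := fun j => by
      rw [LinearMap.mem_ker, hLF]
      funext o
      simp only [U, map_sub, hσ', sub_self, Pi.zero_apply, map_zero]
    let ψF : MvPolynomial (Fin m) k →ₐ[k] MvPolynomial (Fin (Module.finrank F K)) F :=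
      MvPolynomial.aeval fun i => MvPolynomial.C (π (w₀ i)) + ∑ l, MvPolynomial.C ((v l : Fin m → F) i) * MvPolynomial.X l
    obtain ⟨G, hG, hG0⟩ : ∃ G, ψF G = 0 ∧ G ≠ 0 := by
      by_contra hcon
      push Not at hcon
      have hinj : Function.Injective ψF := (injective_iff_map_eq_zero _).2 hcon
      have h1 := trdeg_le_of_injective ψF hinj
      rw [← trdeg_add_eq k F (A := MvPolynomial (Fin (Module.finrank F K)) F), VarDim.trdeg_mvPolynomial k,
        VarDim.trdeg_mvPolynomial F, ← trdeg_add_eq k C (A := F)] at h1
      haveI : Algebra.IsAlgebraic C F := IsLocalization.isAlgebraic F (nonZeroDivisors C)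
      rw [trdeg_eq_zero (R := C) (A := F), add_zero, VarDim.trdeg_eq_tdeg k C] at h1
      have h2 : ((VarDim.tdeg k C : ℕ) : WithBot ℕ∞) ≤ (Fintype.card κ : ℕ) :=
        (VarDim.ringKrullDim_eq_tdeg k C).ge.trans ((ringKrullDim_quotient_le P).trans hdim)
      have h1' : m ≤ VarDim.tdeg k C + Module.finrank F K := by exact_mod_cast h1
      have h2' : VarDim.tdeg k C ≤ Fintype.card κ := by exact_mod_cast h2
      omega
    refine ⟨G, hG0, ?_⟩
    apply MvPolynomial.map_injective (algebraMap C F) (IsFractionRing.injective C F)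
    rw [map_zero, MvPolynomial.map_map]
    let θ : MvPolynomial (Fin (Module.finrank F K)) F →ₐ[F] MvPolynomial (Fin m) F :=
      MvPolynomial.aeval fun l => ∑ j, MvPolynomial.C (v.repr ⟨_, hU j⟩ l) * MvPolynomial.X j
    have hcomm : (MvPolynomial.map π).comp (ψ : MvPolynomial (Fin m) k →+* MvPolynomial (Fin m) B) =
        (θ : _ →+* MvPolynomial (Fin m) F).comp
          (ψF : MvPolynomial (Fin m) k →+* MvPolynomial (Fin (Module.finrank F K)) F) := by
      refine MvPolynomial.ringHom_ext (fun a => ?_) fun i => ?_
      · show MvPolynomial.map π (ψ (MvPolynomial.C a)) = θ (ψF (MvPolynomial.C a))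
        simp only [ψ, ψF, MvPolynomial.aeval_C]
        rw [IsScalarTower.algebraMap_apply k B (MvPolynomial (Fin m) B), MvPolynomial.algebraMap_eq,
          MvPolynomial.map_C, IsScalarTower.algebraMap_apply k F (MvPolynomial (Fin (Module.finrank F K)) F),
          AlgHom.commutes, MvPolynomial.algebraMap_eq]
        congr 1
      · show MvPolynomial.map π (ψ (MvPolynomial.X i)) = θ (ψF (MvPolynomial.X i))
        simp only [ψ, ψF, MvPolynomial.aeval_X, map_add, map_sum, map_mul, MvPolynomial.map_C, MvPolynomial.map_X,
          θ, MvPolynomial.aeval_C, MvPolynomial.algebraMap_eq]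
        congr 1
        simp only [Finset.mul_sum, ← mul_assoc, ← map_mul]
        rw [Finset.sum_comm]
        refine Finset.sum_congr rfl fun j _ => ?_
        rw [← Finset.sum_mul, ← map_sum]
        congr 2
        have h3 := congrFun (congrArg Subtype.val (v.sum_repr ⟨_, hU j⟩)) i
        rw [Submodule.coe_sum, Finset.sum_apply] at h3
        refine h3.symm.trans ?_
        exact Finset.sum_congr rfl fun l _ => mul_comm _ _
    have h4 := RingHom.congr_fun hcomm G
    simp only [RingHom.comp_apply, RingHom.coe_coe, hG, map_zero] at h4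
    exact h4
  choose Gs hGs0 hGs using hgen
  let G := ∏ P ∈ (minimalPrimes.finite_of_isNoetherianRing B).toFinset.attach,
    Gs P.1 ((Set.Finite.mem_toFinset _).1 P.2)
  obtain ⟨N, hN⟩ : IsNilpotent (ψ G) := by
    rw [MvPolynomial.isNilpotent_iff]
    intro d
    rw [← mem_nilradical, nilradical, Ideal.radical, ← Ideal.radical, ← Ideal.sInf_minimalPrimes, Ideal.mem_sInf]
    intro P hP
    have h0 : MvPolynomial.map (Ideal.Quotient.mk P) (ψ G) = 0 := by
      rw [map_prod, map_prod]
      exact Finset.prod_eq_zero (i := ⟨P, (Set.Finite.mem_toFinset _).2 hP⟩) (Finset.mem_attach _ _) (hGs P hP)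
    rw [← Ideal.Quotient.eq_zero_iff_mem, ← MvPolynomial.coeff_map, h0, MvPolynomial.coeff_zero]
  refine ⟨G ^ N, pow_ne_zero _ (Finset.prod_ne_zero_iff.2 fun P _ => hGs0 _ _), fun c hc => ?_⟩
  by_contra hne
  obtain ⟨M, hM, hle⟩ := Ideal.exists_le_maximal _ hne
  apply hc
  haveI := hM
  let mk := Ideal.Quotient.mk M
  let ev : MvPolynomial (Fin m) B →ₐ[B] B ⧸ M := MvPolynomial.aeval fun j => algebraMap k (B ⧸ M) (c j)
  have hh : ∀ o, jac b g (fun i => algebraMap k B (c i)) o + row b g₀ o ∈ M := fun o => by
    have := hle (Ideal.subset_span ⟨o, rfl⟩)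
    rw [map_add, map_sum, Pi.add_apply, Finset.sum_apply] at this
    rw [jac, Fintype.linearCombination_apply, Finset.sum_apply, add_comm]
    convert this using 2
    exact Finset.sum_congr rfl fun i _ => by rw [map_smul, algebraMap_smul]
  have hX : ∀ i, ev (ψ (MvPolynomial.X i)) = algebraMap k (B ⧸ M) (c i) := by
    intro i
    simp only [ψ, ev, MvPolynomial.aeval_X, map_add, map_sum, map_mul, MvPolynomial.aeval_C]
    rw [IsScalarTower.algebraMap_apply k B (B ⧸ M) (c i)]
    simp only [IsScalarTower.algebraMap_apply k B (B ⧸ M), ← map_mul, ← map_sum, ← map_add]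
    refine Ideal.Quotient.eq.2 ?_
    have e : w₀ + ∑ j, algebraMap k B (c j) • U j - (fun j => algebraMap k B (c j)) =
        -σ (jac b g (fun j => algebraMap k B (c j)) + row b g₀) := by
      have hc' : (fun j => algebraMap k B (c j)) = ∑ j, algebraMap k B (c j) • (Pi.single j 1 : Fin m → B) := by
        funext i; simp [Pi.single_apply, Algebra.algebraMap_eq_smul_one]
      simp only [U, w₀, smul_sub, Finset.sum_sub_distrib, ← map_smul, ← map_sum, ← hc', map_add]
      abel
    have hmem : σ (jac b g (fun j => algebraMap k B (c j)) + row b g₀) i ∈ M := by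
      rw [pi_eq_sum_univ (jac b g (fun j => algebraMap k B (c j)) + row b g₀), map_sum, Finset.sum_apply]
      refine Ideal.sum_mem _ fun o _ => ?_
      rw [map_smul, Pi.smul_apply, smul_eq_mul]
      exact M.mul_mem_right _ (hh o)
    have := congrFun e i
    simp only [Pi.sub_apply, Pi.add_apply, Finset.sum_apply, Pi.smul_apply, smul_eq_mul, Pi.neg_apply] at this
    simp only [mul_comm _ (U _ i)] at this
    rw [this]
    exact M.neg_mem hmem
  have hcomp : (ev.restrictScalars k).comp ψ =
      (Algebra.ofId k (B ⧸ M)).comp (MvPolynomial.aeval c : MvPolynomial (Fin m) k →ₐ[k] k) :=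
    MvPolynomial.algHom_ext fun i => (hX i).trans (by simp [Algebra.ofId_apply])
  have h0 := AlgHom.congr_fun hcomp (G ^ N)
  rw [AlgHom.comp_apply, AlgHom.comp_apply, map_pow ψ, hN, map_zero] at h0
  rw [map_pow, Algebra.ofId_apply] at h0
  have h5 : MvPolynomial.aeval c G ^ N = (0 : k) :=
    (algebraMap k (B ⧸ M)).injective (by rw [map_zero]; exact h0.symm)
  rw [map_pow]
  exact h5

end Groth.Agent.BertiniJets13
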