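import Groth.Agent.Lib.BertiniJets13.Chart
import Groth.Agent.Lib.GenSmooth18.Alg
import Mathlib.Algebra.DualNumber

/-! # Bertini in characteristic zero for a generated linear system, on an affine -/

set_option autoImplicit false
set_option linter.style.haveILetI false
universe u

namespace Groth.Agent.BertiniJets13

variable {k : Type u} [Field k] [IsAlgClosed k] [CharZero k] {A : Type u} [CommRing A] [Algebra k A]
  [Algebra.Smooth k A]

/-- Bertini for a linear system containing a unit. -/
theorem exists_good_poly_generated {m : ℕ} (g : Fin m → A) (j : Fin m) (hj : g j = 1) :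
    ∃ G : MvPolynomial (Fin m) k, G ≠ 0 ∧ ∀ c : Fin m → k, MvPolynomial.eval c G ≠ 0 →
      Algebra.Smooth k (A ⧸ Ideal.span {∑ i, c i • g i}) := by
  classical
  let P := MvPolynomial (Fin m) k
  let C := MvPolynomial {i : Fin m // i ≠ j} A
  let T : Fin m → C := fun i => if h : i = j then
    -∑ l : {i : Fin m // i ≠ j}, MvPolynomial.X l * MvPolynomial.C (g l.1) else MvPolynomial.X ⟨i, h⟩
  letI : Algebra P C := (MvPolynomial.aeval T : P →ₐ[k] C).toRingHom.toAlgebra
  haveI : IsScalarTower k P C := .of_algebraMap_eq fun a => ((MvPolynomial.aeval T : P →ₐ[k] C).commutes a).symm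
  haveI : Algebra.Smooth A C :=
    ⟨inferInstance, inferInstance⟩
  haveI : Algebra.Smooth k C := Algebra.Smooth.comp k A C
  haveI : Algebra.FiniteType P C := Algebra.FiniteType.of_restrictScalars_finiteType k P C
  haveI : Algebra.FinitePresentation P C := Algebra.FinitePresentation.of_finiteType.mp inferInstance
  have hgen : ∀ (q : PrimeSpectrum C), q.asIdeal.comap (algebraMap P C) = ⊥ → q ∈ Algebra.smoothLocus P C := by
    intro q hq
    haveI := SmoothReg17.isRegularLocalRing_of_smooth (algebraMap k C)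
      (RingHom.smooth_algebraMap.2 inferInstance) q.asIdeal
    exact GenSmooth18.isSmoothAt_of_comap_eq_bot q.asIdeal hq
  obtain ⟨I, hI⟩ := (PrimeSpectrum.isClosed_iff_zeroLocus_ideal _).1
    (Algebra.isOpen_smoothLocus (R := P) (A := C)).isClosed_compl
  obtain ⟨G, hG, hG0⟩ : ∃ G : P, algebraMap P C G ∈ I ∧ G ≠ 0 := by
    by_contra hcon
    push Not at hcon
    obtain ⟨Q, hQ, hdis⟩ := Ideal.exists_le_prime_disjoint I ((nonZeroDivisors P).map (algebraMap P C)) (by
      rw [Set.disjoint_left]
      rintro z hz ⟨G, hG, rfl⟩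
      exact nonZeroDivisors.ne_zero hG (hcon G hz))
    have hmem : (⟨Q, hQ⟩ : PrimeSpectrum C) ∈ PrimeSpectrum.zeroLocus (I : Set C) := hdis.1
    rw [← hI] at hmem
    refine hmem (hgen _ (eq_bot_iff.2 fun G hG => ?_))
    by_contra hne
    exact Set.disjoint_left.1 hdis.2 hG ⟨G, mem_nonZeroDivisors_of_ne_zero (by simpa using hne), rfl⟩
  refine ⟨G, hG0, fun c hc => smooth_quotient _ fun M hM hsq => ?_⟩
  haveI := hM
  letI : Field (A ⧸ M) := Ideal.Quotient.field M
  haveI : Module.Finite k (A ⧸ M) := finite_of_finite_type_of_isJacobsonRing k (A ⧸ M)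
  haveI : Algebra.IsIntegral k (A ⧸ M) := Algebra.IsIntegral.of_finite k _
  let χ₀ : A →ₐ[k] k := ((AlgEquiv.ofBijective (Algebra.ofId k (A ⧸ M))
    (IsAlgClosed.algebraMap_bijective_of_isIntegral (k := k) (K := A ⧸ M))).symm.toAlgHom).comp
      (Ideal.Quotient.mkₐ k M)
  have hχ₀ : ∀ a ∈ M, χ₀ a = 0 := fun a ha => by
    simp [χ₀, Ideal.Quotient.eq_zero_iff_mem.2 ha]
  have hh : ∑ i, c i • g i ∈ M := Ideal.pow_le_self two_ne_zero hsq
  let χ : C →+* k := MvPolynomial.eval₂Hom χ₀.toRingHom fun l => c l.1
  have hcomp : ∀ p : P, χ (algebraMap P C p) = MvPolynomial.eval c p := by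
    have : χ.comp (algebraMap P C) = MvPolynomial.eval c := by
      refine MvPolynomial.ringHom_ext (fun a => ?_) fun i => ?_
      · show χ (MvPolynomial.aeval T (MvPolynomial.C a)) = _
        rw [MvPolynomial.aeval_C, MvPolynomial.eval_C, IsScalarTower.algebraMap_apply k A C,
          MvPolynomial.algebraMap_eq, MvPolynomial.eval₂Hom_C]
        exact χ₀.commutes a
      · show χ (MvPolynomial.aeval T (MvPolynomial.X i)) = _
        rw [MvPolynomial.aeval_X, MvPolynomial.eval_X]
        by_cases hi : i = j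
        · subst hi
          have h0 := hχ₀ _ hh
          rw [map_sum, Fintype.sum_eq_add_sum_subtype_ne _ i, map_smul, hj, map_one, smul_eq_mul, mul_one] at h0
          simp only [T, dif_pos rfl, χ, map_neg, map_sum, map_mul, MvPolynomial.eval₂Hom_X', MvPolynomial.eval₂Hom_C]
          rw [neg_eq_iff_add_eq_zero, ← h0, add_comm]
          congr 1
          refine Finset.sum_congr rfl fun l _ => ?_
          rw [map_smul, smul_eq_mul, MvPolynomial.eval₂Hom_X', MvPolynomial.eval₂Hom_C]
          rfl
        · simp only [T, dif_neg hi]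
          exact MvPolynomial.eval₂_X _ _ _
    exact fun p => RingHom.congr_fun this p
  haveI : (RingHom.ker χ).IsPrime := RingHom.ker_isPrime χ
  have hsm : Algebra.IsSmoothAt P (RingHom.ker χ) := by
    by_contra hns
    have hmem : (⟨RingHom.ker χ, inferInstance⟩ : PrimeSpectrum C) ∈ (Algebra.smoothLocus P C)ᶜ := hns
    rw [hI] at hmem
    exact hc ((hcomp G).symm.trans (RingHom.mem_ker.1 (hmem hG)))
  let CN := Localization.AtPrime (RingHom.ker χ)
  haveI : Algebra.FormallySmooth P CN := hsm
  letI : Algebra P k := (MvPolynomial.eval c).toAlgebra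
  let χ' : CN →ₐ[P] k :=
    { IsLocalization.lift (M := (RingHom.ker χ).primeCompl) (g := χ) (fun z => IsUnit.mk0 _ z.2) with
      commutes' := fun p => by
        show IsLocalization.lift (M := (RingHom.ker χ).primeCompl) _ (algebraMap P CN p) = MvPolynomial.eval c p
        rw [IsScalarTower.algebraMap_apply P C CN, IsLocalization.lift_eq, hcomp] }
  letI : Algebra P (DualNumber k) :=
    (MvPolynomial.eval₂Hom (algebraMap k (DualNumber k))
      fun i => algebraMap k (DualNumber k) (c i) + if i = j then DualNumber.eps else 0).toAlgebra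
  let π : DualNumber k →ₐ[P] k :=
    { (TrivSqZeroExt.fstHom k k k).toRingHom with
      commutes' := fun p => by
        have : ((TrivSqZeroExt.fstHom k k k).toRingHom).comp (algebraMap P (DualNumber k)) = MvPolynomial.eval c := by
          refine MvPolynomial.ringHom_ext (fun a => ?_) fun i => ?_
          · simp [RingHom.algebraMap_toAlgebra]
          · by_cases hi : i = j <;> simp [RingHom.algebraMap_toAlgebra, hi, TrivSqZeroExt.algebraMap_eq_inl]
        exact RingHom.congr_fun this p }
  have hsq0 : ∀ a b : DualNumber k, π a = 0 → π b = 0 → a * b = 0 := fun a b ha hb => by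
    have ha' : a.fst = 0 := ha
    have hb' : b.fst = 0 := hb
    ext <;> simp [TrivSqZeroExt.fst_mul, TrivSqZeroExt.snd_mul, ha', hb']
  have hnil : IsNilpotent (RingHom.ker (π : DualNumber k →+* k)) := ⟨2, le_bot_iff.1 (by
    rw [Submodule.pow_succ, Submodule.pow_one, Ideal.mul_le]
    exact fun a ha b hb => (Ideal.mem_bot).2 (hsq0 a b ha hb))⟩
  let ψ := Algebra.FormallySmooth.liftOfSurjective χ' π (fun x => ⟨TrivSqZeroExt.inl x, rfl⟩) hnil
  have hψ : ∀ z, π (ψ z) = χ' z := Algebra.FormallySmooth.liftOfSurjective_apply χ' π _ hnil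
  let ρ : C →+* DualNumber k := (ψ : CN →+* DualNumber k).comp (algebraMap C CN)
  have hρP : ∀ p : P, ρ (algebraMap P C p) = algebraMap P (DualNumber k) p := fun p => by
    show ψ (algebraMap C CN (algebraMap P C p)) = _
    rw [← IsScalarTower.algebraMap_apply, ψ.commutes]
  have hρA : ∀ a ∈ M, π (ρ (MvPolynomial.C a)) = 0 := fun a ha => by
    show π (ψ _) = 0
    rw [hψ]
    show IsLocalization.lift (M := (RingHom.ker χ).primeCompl) _ (algebraMap C CN (MvPolynomial.C a)) = 0
    rw [IsLocalization.lift_eq, MvPolynomial.eval₂Hom_C]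
    exact hχ₀ a ha
  have hρ0 : ρ (MvPolynomial.C (∑ i, c i • g i)) = 0 := by
    suffices ∀ z ∈ M * M, ρ (MvPolynomial.C z) = 0 from this _ (by rwa [← pow_two])
    intro z hz
    induction hz using Submodule.mul_induction_on' with
    | mem_mul_mem x hx y hy => rw [map_mul, map_mul]; exact hsq0 _ _ (hρA x hx) (hρA y hy)
    | add x _ y _ hx hy => rw [map_add, map_add, hx, hy, add_zero]
  have hρC : ∀ a : k, ρ (MvPolynomial.C (algebraMap k A a)) = algebraMap k (DualNumber k) a := fun a => by
    rw [← MvPolynomial.algebraMap_eq, ← IsScalarTower.algebraMap_apply k A C,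
      IsScalarTower.algebraMap_apply k P C, hρP]
    exact MvPolynomial.eval₂_C _ _ _
  have hρX : ∀ i, ρ (T i) = algebraMap k (DualNumber k) (c i) + if i = j then DualNumber.eps else 0 := fun i => by
    rw [show T i = algebraMap P C (MvPolynomial.X i) from (MvPolynomial.aeval_X T i).symm, hρP]
    exact MvPolynomial.eval₂_X _ _ _
  have hTl : ∀ l : {i : Fin m // i ≠ j}, ρ (MvPolynomial.X l) = algebraMap k (DualNumber k) (c l.1) := fun l => by
    have := hρX l.1
    simp only [T, dif_neg l.2, if_neg l.2, add_zero] at this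
    exact this
  have h1 := hρX j
  simp only [T, dif_pos rfl, if_pos rfl, if_true, map_neg, map_sum, map_mul, hTl] at h1
  rw [map_sum, map_sum, Fintype.sum_eq_add_sum_subtype_ne _ j, Algebra.smul_def, hj, mul_one, hρC] at hρ0
  have h2 : ∀ l : {i : Fin m // i ≠ j}, ρ (MvPolynomial.C (c l.1 • g l.1)) =
      algebraMap k (DualNumber k) (c l.1) * ρ (MvPolynomial.C (g l.1)) := fun l => by
    rw [Algebra.smul_def, map_mul, map_mul, hρC]
  rw [Finset.sum_congr rfl fun l _ => h2 l] at hρ0
  have h3 : (DualNumber.eps : DualNumber k) = 0 := by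
    linear_combination -h1 - hρ0
  exact one_ne_zero (α := k) (congrArg TrivSqZeroExt.snd h3)

end Groth.Agent.BertiniJets13
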